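import Groth.Agent.Lib.DivisorExt
import Groth.Agent.Lib.CurveTensor
import Groth.Agent.Lib.ProjRegularPn
import Groth.Agent.Lib.LerayCorner
import Groth.Agent.S0927
import Groth.Agent.S0844
import Groth.Agent.S1697
import Groth.Agent.S8914
import Groth.Agent.H23.PicMul
import Groth.Agent.QCoh.HHExact
import Groth.Agent.QCoh.AffineCohom
import Groth.Agent.QCoh.OpenSub
import Groth.Prelude.Def_ModelsG

/-! Vanishing of `H¹` of twists along an exceptional curve. -/

set_option autoImplicit false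
set_option linter.style.haveILetI false
set_option linter.unusedSectionVars false
set_option backward.isDefEq.respectTransparency false
set_option backward.isDefEq.respectTransparency.types false
set_option maxHeartbeats 1000000

universe u

open CategoryTheory CategoryTheory.Limits AlgebraicGeometry TopologicalSpace Opposite
open Groth.Agent.H23
open scoped Groth.Agent.H23.PicMul

namespace Groth.Agent.ExcTwist

/-- The class of `O(d)` on the line. -/
noncomputable def tw (k : Type u) [Field k] (d : ℤ) : PicF.Cl (CohB1.ProjSpace 1 k) :=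
  PicF.cl (Twist.twistProjSpace 1 k d)

theorem tw_add (k : Type u) [Field k] (a b : ℤ) : tw k a * tw k b = tw k (a + b) := by
  obtain ⟨-, h2, -⟩ := PnCoh.Finite.invertible_package (𝒜 := CohB1.polyGrading 1 k) (ProjRegular.coords k 1)
    ProjRegular.coords_mem ProjRegular.coords_cover
  unfold tw
  rw [← PicMul.cl_tensor]
  exact PicMul.cl_eq_iff.2 (h2 a b)

theorem tw_pow_one (k : Type u) [Field k] (n : ℕ) : tw k 1 ^ n = tw k n := by
  obtain ⟨-, -, h3⟩ := PnCoh.Finite.invertible_package (𝒜 := CohB1.polyGrading 1 k) (ProjRegular.coords k 1)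
    ProjRegular.coords_mem ProjRegular.coords_cover
  unfold tw
  rw [← PicMul.cl_tensorPow]
  exact PicMul.cl_eq_iff.2 ⟨(h3 n).some.symm⟩

theorem tw_zero (k : Type u) [Field k] : tw k 0 = 1 := by
  rw [← Nat.cast_zero (R := ℤ), ← tw_pow_one, pow_zero]

theorem tw_pow (k : Type u) [Field k] (m : ℤ) (n : ℕ) : tw k m ^ n = tw k (m * n) := by
  induction n with
  | zero => rw [pow_zero, Nat.cast_zero, mul_zero, tw_zero]
  | succ n ih => rw [pow_succ, ih, tw_add, Nat.cast_succ, mul_add, mul_one]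

/-- The degree is well defined. -/
theorem tw_eq_one (k : Type u) [Field k] {d : ℤ} (h : tw k d = 1) : d = 0 := by
  suffices aux : ∀ e : ℤ, e < 0 → tw k e ≠ 1 by
    rcases lt_trichotomy d 0 with hd | hd | hd
    · exact absurd h (aux d hd)
    · exact hd
    · refine absurd ?_ (aux (-d) (by omega))
      have := tw_add k (-d) d
      rwa [h, mul_one, neg_add_cancel, tw_zero] at this
  intro e he hee
  rw [PicMul.one_def] at hee
  obtain ⟨φ⟩ := PicMul.cl_eq_iff.1 hee
  have h0 : Subsingleton (Coh.HH (CohB1.ProjSpace 1 k) (Coh.structureModule (CohB1.ProjSpace 1 k)) 0) :=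
    QCoh.subsingleton_HH_of_iso φ 0 (S0844.result k 1 e 0 (by omega) (by omega))
  have h1 := (LerayCorner.subsingleton_HH_zero_iff _).1 h0
  change Subsingleton Γ(CohB1.ProjSpace 1 k, ⊤) at h1
  obtain ⟨x⟩ : Nonempty (CohB1.ProjSpace 1 k) := by
    obtain ⟨j⟩ : Nonempty (ULift.{u} (Fin (1 + 1))) := inferInstance
    by_contra hne
    rw [not_nonempty_iff] at hne
    let v : ProjectiveSpectrum (CohB1.polyGrading 1 k) := ⟨⊥, by
      rw [HomogeneousIdeal.toIdeal_bot]; exact Ideal.isPrime_bot, fun hle => by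
      have h2 := hle (HomogeneousIdeal.mem_irrelevant_of_mem _ Nat.one_pos
        (ProjRegular.coords_mem (k := k) (n := 1) j))
      change _ ∈ (⊥ : HomogeneousIdeal (CohB1.polyGrading 1 k)).toIdeal at h2
      rw [HomogeneousIdeal.toIdeal_bot, Ideal.mem_bot] at h2
      exact MvPolynomial.X_ne_zero _ h2⟩
    exact hne.false v
  exact one_ne_zero (α := (CohB1.ProjSpace 1 k).presheaf.stalk x) (by
    rw [← map_one ((CohB1.ProjSpace 1 k).presheaf.germ ⊤ x trivial).hom, Subsingleton.elim (1 : Γ(CohB1.ProjSpace 1 k, ⊤)) 0,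
      map_zero])

/-- A morphism of lines sends `O(1)` to a power of `O(1)`. -/
theorem exists_pull {k k' : Type u} [Field k] [Field k'] (σ : CohB1.ProjSpace 1 k ⟶ CohB1.ProjSpace 1 k') :
    ∃ m : ℤ, ∀ d : ℤ, PicMul.pullHom σ (tw k' d) = tw k (m * d) := by
  have hi : PicF.IsInvertible (Twist.twistProjSpace 1 k' 1) :=
    (PnCoh.Finite.invertible_package (𝒜 := CohB1.polyGrading 1 k') (ProjRegular.coords k' 1)
      ProjRegular.coords_mem ProjRegular.coords_cover).1 1
  obtain ⟨m, ⟨φ⟩⟩ := S1697.result k 1 _ (PicClLib.isInvertible_pullback σ hi)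
  have h1 : PicMul.pullHom σ (tw k' 1) = tw k m := PicMul.cl_eq_iff.2 ⟨φ⟩
  have hn : ∀ n : ℕ, PicMul.pullHom σ (tw k' n) = tw k (m * n) := fun n => by
    rw [← tw_pow_one, map_pow, h1, tw_pow]
  refine ⟨m, fun d => ?_⟩
  obtain ⟨n, rfl | rfl⟩ := Int.eq_nat_or_neg d
  · exact hn n
  · have h := congrArg (PicMul.pullHom σ) (tw_add k' (-(n : ℤ)) n)
    rw [neg_add_cancel, tw_zero, map_one, map_mul, hn] at h
    calc PicMul.pullHom σ (tw k' (-(n : ℤ)))
        = PicMul.pullHom σ (tw k' (-(n : ℤ))) * (tw k (m * n) * tw k (m * -n)) := by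
          rw [tw_add, ← mul_add, add_neg_cancel, mul_zero, tw_zero, mul_one]
      _ = _ := by rw [← mul_assoc, h, one_mul]

theorem pullHom_comp {X Y Z : Scheme.{u}} (f : X ⟶ Y) (g : Y ⟶ Z) (A : Z.Modules) :
    PicMul.pullHom f (PicMul.pullHom g (PicF.cl A)) = PicMul.pullHom (f ≫ g) (PicF.cl A) :=
  PicMul.cl_eq_iff.2 ⟨(Scheme.Modules.pullbackComp f g).app A⟩

/-- Restricting an invertible module to a closed subscheme. -/
theorem tensor_quotMod {E X : Scheme.{u}} (ι : E ⟶ X) [IsClosedImmersion ι] {A : X.Modules}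
    (hA : PicF.IsInvertible A) :
    Nonempty ((DCoh.tensorBi.obj A).obj (ClSub.quotMod ι.ker) ≅
      (Scheme.Modules.pushforward ι).obj ((Scheme.Modules.pullback ι).obj A)) := by
  obtain ⟨q⟩ := DivisorExt.nonempty_quotMod_iso ι
  haveI : EnoughInjectives E.Modules := inferInstance
  obtain ⟨φ⟩ := S0927.result ι (Coh.structureModule E) A
    (fun y => let ⟨W, hy, he⟩ := InvEnd.isFinLocFreeOfRank_one hA y; ⟨W, 1, hy, he⟩) 0
  let ψ := (Scheme.Modules.pushforward ι).rightDerivedZeroIsoSelf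
  obtain ⟨c⟩ := PicMul.cl_eq_iff.1
    (show PicF.cl (CohB1.tensorMod ((Scheme.Modules.pullback ι).obj A) (Coh.structureModule E)) =
      PicF.cl ((Scheme.Modules.pullback ι).obj A) by
      rw [PicMul.cl_tensor, ← PicMul.one_def, mul_one])
  exact ⟨(DCoh.tensorBi.obj A).mapIso (q ≪≫ (ψ.app _).symm) ≪≫ φ ≪≫ ψ.app _ ≪≫
    (Scheme.Modules.pushforward ι).mapIso c⟩

theorem main {E X : Scheme.{u}} (ι : E ⟶ X) [IsClosedImmersion ι] (hE : Models.IsExcCurve ι) (M : X.Modules)
    (hM : ClSub.IsInverseOf M (ClSub.idealMod ι.ker)) (L : X.Modules) (hL : PicF.IsInvertible L)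
    (k : Type u) [Field k] (e : CohB1.ProjSpace 1 k ≅ E) (n : ℕ)
    (hn : Nonempty ((Scheme.Modules.pullback (e.hom ≫ ι)).obj L ≅ Twist.twistProjSpace 1 k (n : ℤ)))
    (h1 : Subsingleton (Coh.HH X L 1)) :
    ∀ i : ℕ, i ≤ n + 1 → Subsingleton (Coh.HH X (CohB1.tensorMod L (CohB1.tensorPow M i)) 1) := by
  obtain ⟨heff, k', _, e', ⟨φ'⟩⟩ := hE
  set I := ClSub.idealMod ι.ker with hIdef
  have hI : PicF.IsInvertible I := (S8914.result ι.ker).2 heff
  have hMI : PicF.cl M * PicF.cl I = 1 := by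
    rw [← PicMul.cl_tensor, PicMul.one_def]; exact PicMul.cl_eq_iff.2 hM
  have hMinv : PicF.IsInvertible M := by
    obtain ⟨I', hI', ⟨ε⟩⟩ := PicInv.exists_inverse hI
    refine PicMul.isInvertible_of_iso (PicMul.cl_eq_iff.1 ?_).some hI'
    have h2 : PicF.cl I * PicF.cl I' = 1 ∨ PicF.cl I' * PicF.cl I = 1 := by
      first
        | exact Or.inl (by rw [← PicMul.cl_tensor, PicMul.one_def]; exact PicMul.cl_eq_iff.2 ⟨ε⟩)
        | exact Or.inr (by rw [← PicMul.cl_tensor, PicMul.one_def]; exact PicMul.cl_eq_iff.2 ⟨ε⟩)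
    rcases h2 with h2 | h2
    · exact (left_inv_eq_right_inv hMI h2).symm
    · exact (left_inv_eq_right_inv hMI (by rw [mul_comm, h2])).symm
  -- the degrees
  obtain ⟨m, hm⟩ := exists_pull (e.hom ≫ e'.inv)
  obtain ⟨m', hm'⟩ := exists_pull (e'.hom ≫ e.inv)
  have hmm : m * m' = 1 := by
    have h := congrArg (PicMul.pullHom (e.hom ≫ e'.inv)) (hm' 1)
    rw [mul_one, hm, tw, show PicMul.pullHom (e.hom ≫ e'.inv) (PicMul.pullHom (e'.hom ≫ e.inv) _) = _ from
      pullHom_comp _ _ _] at h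
    have hid : (e.hom ≫ e'.inv) ≫ e'.hom ≫ e.inv = 𝟙 _ := by simp
    rw [hid] at h
    have h' : PicF.cl (Twist.twistProjSpace 1 k 1) = tw k (m * m') :=
      (PicMul.cl_eq_iff.2 ⟨(Scheme.Modules.pullbackId _).app _⟩ :
        PicMul.pullHom (𝟙 _) (PicF.cl (Twist.twistProjSpace 1 k 1)) = _).symm.trans h
    have h2 := congrArg (· * tw k (-1)) h'
    change tw k 1 * tw k (-1) = tw k (m * m') * tw k (-1) at h2
    rw [tw_add, tw_add, add_neg_cancel, tw_zero] at h2
    have := tw_eq_one k h2.symm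
    omega
  have hm1 : m ≤ 1 := by
    rcases Int.eq_one_or_neg_one_of_mul_eq_one hmm with h | h <;> omega
  let R := PicMul.pullHom (e.hom ≫ ι)
  have hRI : R (PicF.cl I) = tw k m := by
    show PicMul.pullHom (e.hom ≫ ι) (PicF.cl I) = _
    rw [show e.hom ≫ ι = (e.hom ≫ e'.inv) ≫ (e'.hom ≫ ι) by simp, ← pullHom_comp,
      show PicMul.pullHom (e'.hom ≫ ι) (PicF.cl I) = tw k' 1 from PicMul.cl_eq_iff.2 ⟨φ'⟩, hm, mul_one]
  have hRL : R (PicF.cl L) = tw k n := PicMul.cl_eq_iff.2 hn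
  have hRM : R (PicF.cl M) = tw k (-m) := by
    have h := congrArg R hMI
    rw [map_mul, map_one, hRI] at h
    calc R (PicF.cl M) = R (PicF.cl M) * (tw k m * tw k (-m)) := by rw [tw_add, add_neg_cancel, tw_zero, mul_one]
      _ = _ := by rw [← mul_assoc, h, one_mul]
  intro i
  induction i with
  | zero =>
    intro _
    obtain ⟨ε⟩ := PicMul.unit L
    exact QCoh.subsingleton_HH_of_iso ε.symm 1 h1
  | succ i ih =>
    intro hi
    set T := CohB1.tensorMod L (CohB1.tensorPow M (i + 1))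
    have hT : PicF.IsInvertible T := PicMul.isInvertible_tensor hL (PicMul.isInvertible_tensorPow hMinv _)
    have hses := CurveTensor.shortExact_tensor (E := T)
      (fun y => let ⟨W, hy, he⟩ := InvEnd.isFinLocFreeOfRank_one hT y; ⟨W, 1, hy, he⟩) _ _ _
      (DivisorExt.ideal_shortExact ι.ker)
    have hX₁ : Subsingleton (Coh.HH X ((DCoh.tensorBi.obj T).obj I) 1) := by
      have h : PicF.cl ((DCoh.tensorBi.obj T).obj I) = PicF.cl (CohB1.tensorMod L (CohB1.tensorPow M i)) := by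
        show PicF.cl (CohB1.tensorMod (CohB1.tensorMod L (CohB1.tensorPow M (i + 1))) I) = _
        rw [PicMul.cl_tensor, PicMul.cl_tensor, PicMul.cl_tensor, PicMul.cl_tensorPow, PicMul.cl_tensorPow, pow_succ,
          mul_assoc, mul_assoc (PicF.cl M ^ i), hMI, mul_one]
      exact QCoh.subsingleton_HH_of_iso (PicMul.cl_eq_iff.1 h).some.symm 1 (ih (by omega))
    have hX₃ : Subsingleton (Coh.HH X ((DCoh.tensorBi.obj T).obj (ClSub.quotMod ι.ker)) 1) := by
      obtain ⟨ψ⟩ := tensor_quotMod ι hT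
      have hd : R (PicF.cl T) = tw k ((n : ℤ) + -m * ((i + 1 : ℕ) : ℤ)) := by
        show R (PicF.cl (CohB1.tensorMod L (CohB1.tensorPow M (i + 1)))) = _
        rw [PicMul.cl_tensor, map_mul, PicMul.cl_tensorPow, map_pow, hRL, hRM, tw_pow, tw_add]
      obtain ⟨χ⟩ := PicMul.cl_eq_iff.1 (hd : PicF.cl ((Scheme.Modules.pullback (e.hom ≫ ι)).obj T) = PicF.cl _)
      have hQ : Coh.IsQCoh T := QCoh.isQCoh_of_isFinLocFree
        (fun y => let ⟨W, hy, he⟩ := InvEnd.isFinLocFreeOfRank_one hT y; ⟨W, 1, hy, he⟩)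
      have hP : Subsingleton (Coh.HH (CohB1.ProjSpace 1 k)
          (Twist.twistProjSpace 1 k ((n : ℤ) + -m * ((i + 1 : ℕ) : ℤ))) 1) :=
        S0844.result k 1 _ 1 (by omega) (by
          rintro ⟨-, hle⟩
          have : m * ((i + 1 : ℕ) : ℤ) ≤ ((n + 1 : ℕ) : ℤ) :=
            le_trans (mul_le_of_le_one_left (by omega) hm1) (by exact_mod_cast hi)
          push_cast at *
          linarith)
      have hE1 : Subsingleton (Coh.HH E ((Scheme.Modules.pullback ι).obj T) 1) := by
        let N := (Scheme.Modules.pullback ι).obj T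
        haveI : IsIso ((Scheme.Modules.restrictAdjunction e.hom).unit.app N) := CurveTensor.isIso_unit_of_isIso e.hom N
        let φ : N ≅ (Coh.push e.hom).obj ((Scheme.Modules.pullback e.hom).obj N) :=
          asIso ((Scheme.Modules.restrictAdjunction e.hom).unit.app N) ≪≫
            (Scheme.Modules.pushforward e.hom).mapIso ((Scheme.Modules.restrictFunctorIsoPullback e.hom).app N)
        obtain ⟨a⟩ := QCoh.HH_push_of_isAffineHom e.hom (QCoh.isQCoh_pullback e.hom (QCoh.isQCoh_pullback ι hQ)) 1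
        have h' := QCoh.subsingleton_HH_of_iso (((Scheme.Modules.pullbackComp e.hom ι).app T) ≪≫ χ).symm 1 hP
        exact QCoh.subsingleton_HH_of_iso φ.symm 1 (@Equiv.subsingleton _ _ a.symm.toEquiv h')
      obtain ⟨a⟩ := QCoh.HH_push_of_isAffineHom ι (QCoh.isQCoh_pullback ι hQ) 1
      exact QCoh.subsingleton_HH_of_iso ψ.symm 1 (@Equiv.subsingleton _ _ a.symm.toEquiv hE1)
    have hmid := QCoh.subsingleton_HH_X₂ hses 1 hX₁ hX₃
    exact QCoh.subsingleton_HH_of_iso (PicMul.unit T).some 1 hmid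

end Groth.Agent.ExcTwist
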